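import Mathlib

set_option autoImplicit false
universe u

namespace Groth.Agent.Lib.Helper32.GrSmooth

section Taylor

variable {T : Type u} [CommRing T] (K M : Ideal T) (τ : T →+* T ⧸ K ^ 2)
  (hτ : ∀ t, ∃ c ∈ K, τ t = Ideal.Quotient.mk (K ^ 2) (t + c))

include hτ in
theorem exists_tau_eq (f : T) (hf : f ∈ M * M) :
    ∃ y ∈ (M ⊔ K) * K, τ f = Ideal.Quotient.mk (K ^ 2) (f + y) := by
  refine Submodule.mul_induction_on hf ?_ ?_
  · intro u hu v hv
    obtain ⟨a, ha, hua⟩ := hτ u
    obtain ⟨b, hb, hvb⟩ := hτ v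
    refine ⟨u * b + v * a + a * b, ?_, ?_⟩
    · refine Ideal.add_mem _ (Ideal.add_mem _ ?_ ?_) ?_
      · exact Ideal.mul_mem_mul (Ideal.mem_sup_left hu) hb
      · exact Ideal.mul_mem_mul (Ideal.mem_sup_left hv) ha
      · exact Ideal.mul_mem_mul (Ideal.mem_sup_right ha) hb
    · rw [map_mul, hua, hvb, ← map_mul]
      congr 1
      ring
  · intro x y ⟨y1, hy1, e1⟩ ⟨y2, hy2, e2⟩
    refine ⟨y1 + y2, Ideal.add_mem _ hy1 hy2, ?_⟩
    rw [map_add, e1, e2, ← map_add]
    congr 1
    ring

include hτ in
theorem mem_of_tau_eq_zero (f : T) (hf : f ∈ M * M) (h0 : τ f = 0) : f ∈ (M ⊔ K) * K := by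
  obtain ⟨y, hy, e⟩ := exists_tau_eq K M τ hτ f hf
  rw [h0] at e
  have h1 : f + y ∈ K ^ 2 := Ideal.Quotient.eq_zero_iff_mem.mp e.symm
  have h2 : K ^ 2 ≤ (M ⊔ K) * K := by
    rw [pow_two]
    exact Ideal.mul_mono_left le_sup_right
  have : f = (f + y) - y := by ring
  rw [this]
  exact Ideal.sub_mem _ (h2 h1) hy

theorem le_pow_of_le_mul (h : K ≤ M * K) (j : ℕ) : K ≤ M ^ j := by
  induction j with
  | zero => rw [pow_zero, Ideal.one_eq_top]; exact le_top
  | succ j ih =>
    rw [pow_succ']
    exact h.trans (Ideal.mul_mono_right ih)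

end Taylor

section SymAug

open MvPolynomial

variable (S : Type u) [CommRing S] (P : Type u) [AddCommGroup P] [Module S P]

noncomputable def augIdeal : Ideal (SymmetricAlgebra S P) :=
  RingHom.ker (SymmetricAlgebra.algebraMapInv (R := S) (M := P)).toRingHom

theorem mem_augIdeal (t : SymmetricAlgebra S P) :
    t ∈ augIdeal S P ↔ SymmetricAlgebra.algebraMapInv (R := S) (M := P) t = 0 := by
  rw [augIdeal, RingHom.mem_ker]; rfl

theorem eq_zero_of_forall_mem_pow [Module.Finite S P] [Module.Projective S P]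
    (t : SymmetricAlgebra S P) (h : ∀ j, t ∈ augIdeal S P ^ j) : t = 0 := by
  classical
  obtain ⟨n, f, g, -, -, hfg⟩ := Module.Finite.exists_comp_eq_id_of_projective S P
  let G : SymmetricAlgebra S P →ₐ[S] SymmetricAlgebra S (Fin n → S) :=
    SymmetricAlgebra.lift ((SymmetricAlgebra.ι S (Fin n → S)).comp g)
  let Fm : SymmetricAlgebra S (Fin n → S) →ₐ[S] SymmetricAlgebra S P :=
    SymmetricAlgebra.lift ((SymmetricAlgebra.ι S P).comp f)
  have hFG : Fm.comp G = AlgHom.id S _ := by
    apply SymmetricAlgebra.algHom_ext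
    ext p
    show Fm (G (SymmetricAlgebra.ι S P p)) = SymmetricAlgebra.ι S P p
    simp only [G, Fm, SymmetricAlgebra.lift_ι_apply, LinearMap.comp_apply]
    have := LinearMap.congr_fun hfg p
    simp only [LinearMap.comp_apply, LinearMap.id_apply] at this
    rw [this]
  let e := SymmetricAlgebra.equivMvPolynomial (Pi.basisFun S (Fin n))
  let θ : SymmetricAlgebra S P →ₐ[S] MvPolynomial (Fin n) S := e.toAlgHom.comp G
  have hθinj : Function.Injective θ := by
    intro x y hxy
    have h1 : G x = G y := e.injective hxy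
    have h2 := congrArg Fm h1
    have h3 := AlgHom.congr_fun hFG x
    have h4 := AlgHom.congr_fun hFG y
    simp only [AlgHom.comp_apply, AlgHom.id_apply] at h3 h4
    rw [← h3, ← h4, h2]
  have hc0 : ∀ x, MvPolynomial.constantCoeff (θ x)
      = SymmetricAlgebra.algebraMapInv (R := S) (M := P) x := by
    have hlin : ∀ v : Fin n → S,
        MvPolynomial.constantCoeff (e (SymmetricAlgebra.ι S (Fin n → S) v)) = 0 := by
      intro v
      have h0 : ((MvPolynomial.constantCoeff (R := S) (σ := Fin n)).toAddMonoidHom.comp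
          (e.toLinearMap.comp (SymmetricAlgebra.ι S (Fin n → S))).toAddMonoidHom) v = 0 := by
        have hz : (Algebra.linearMap S S).comp
            ((MvPolynomial.aeval (0 : Fin n → S)).toLinearMap.comp
              (e.toLinearMap.comp (SymmetricAlgebra.ι S (Fin n → S)))) = 0 := by
          apply (Pi.basisFun S (Fin n)).ext
          intro i
          simp only [LinearMap.comp_apply, AlgHom.toLinearMap_apply, AlgEquiv.toLinearMap_apply,
            LinearMap.zero_apply, e, SymmetricAlgebra.equivMvPolynomial_ι_apply,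
            MvPolynomial.aeval_X]
          simp
        have := LinearMap.congr_fun hz v
        simp only [LinearMap.comp_apply, AlgHom.toLinearMap_apply, AlgEquiv.toLinearMap_apply,
          LinearMap.zero_apply, Algebra.linearMap_apply, MvPolynomial.aeval_zero] at this
        simpa using this
      simpa using h0
    have hcomp : (MvPolynomial.aeval (0 : Fin n → S)).comp θ
        = SymmetricAlgebra.algebraMapInv (R := S) (M := P) := by
      apply SymmetricAlgebra.algHom_ext
      ext p
      show MvPolynomial.aeval (0 : Fin n → S) (θ (SymmetricAlgebra.ι S P p))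
        = SymmetricAlgebra.algebraMapInv (SymmetricAlgebra.ι S P p)
      rw [SymmetricAlgebra.algebraMapInv_ι, MvPolynomial.aeval_zero]
      simp only [θ, G, AlgHom.comp_apply, SymmetricAlgebra.lift_ι_apply, LinearMap.comp_apply]
      show algebraMap S S (MvPolynomial.constantCoeff (e _)) = 0
      rw [hlin, map_zero]
    intro x
    have := AlgHom.congr_fun hcomp x
    rw [AlgHom.comp_apply, MvPolynomial.aeval_zero] at this
    simpa using this
  have hmap : (augIdeal S P).map θ.toRingHom ≤ idealOfVars (Fin n) S := by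
    rw [Ideal.map_le_iff_le_comap]
    intro x hx
    rw [mem_augIdeal] at hx
    rw [Ideal.mem_comap]
    have h1 := hc0 x
    rw [hx] at h1
    have h2 : θ x ∈ idealOfVars (Fin n) S ^ 1 := by
      rw [mem_pow_idealOfVars_iff']
      intro d hd
      have hd0 : d = 0 := by
        have : d.degree = 0 := by omega
        exact (Finsupp.degree_eq_zero_iff d).mp this
      rw [hd0, ← MvPolynomial.constantCoeff_eq]
      exact h1
    rwa [pow_one] at h2
  have hall : ∀ j, θ t ∈ idealOfVars (Fin n) S ^ j := by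
    intro j
    have h1 : θ t ∈ ((augIdeal S P) ^ j).map θ.toRingHom := Ideal.mem_map_of_mem _ (h j)
    rw [Ideal.map_pow] at h1
    exact Ideal.pow_right_mono hmap j h1
  apply hθinj
  rw [map_zero]
  by_contra hne
  obtain ⟨d, hd⟩ := MvPolynomial.ne_zero_iff.mp hne
  have h1 := hall (d.degree + 1)
  rw [mem_pow_idealOfVars_iff'] at h1
  exact hd (h1 d (Nat.lt_succ_self _))

end SymAug

end Groth.Agent.Lib.Helper32.GrSmooth
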