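import Mathlib
import Groth.Agent.Lib.Helper32.GrSmooth.Taylor

set_option autoImplicit false
universe u
open DirectSum

namespace Groth.Agent.Lib.Helper32.GrSmooth

section Graded

variable {R : Type u} [CommRing R] {A : Type u} [CommRing A] [Algebra R A]
  {N : Type} [AddCommMonoid N] [DecidableEq N] [PartialOrder N] [CanonicallyOrderedAdd N]
  [IsCancelAdd N]
  (𝒜 : N → Submodule R A) [GradedAlgebra 𝒜]

def irr : Ideal A := RingHom.ker (GradedRing.projZeroRingHom 𝒜)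

theorem mem_irr (x : A) : x ∈ irr 𝒜 ↔ (decompose 𝒜 x 0 : A) = 0 := by
  rw [irr, RingHom.mem_ker]; rfl

theorem mem_irr_of_mem {n : N} (hn : n ≠ 0) {x : A} (hx : x ∈ 𝒜 n) : x ∈ irr 𝒜 := by
  rw [mem_irr]
  exact decompose_of_mem_ne 𝒜 hx hn

theorem proj_mem_irr (n : N) {x : A} (hx : x ∈ irr 𝒜) : (decompose 𝒜 x n : A) ∈ irr 𝒜 := by
  by_cases hn : n = 0
  · rw [mem_irr] at hx
    rw [hn, hx]
    exact zero_mem _
  · exact mem_irr_of_mem 𝒜 hn (SetLike.coe_mem _)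

theorem proj_mul_mem (Q : AddSubgroup A) (n : N)
    (hQ : ∀ i j : N, i ≠ 0 → j ≠ 0 → i + j = n → ∀ u ∈ 𝒜 i, ∀ v ∈ 𝒜 j, u * v ∈ Q)
    (u v : A) (hu : u ∈ irr 𝒜) (hv : v ∈ irr 𝒜) : (decompose 𝒜 (u * v) n : A) ∈ Q := by
  classical
  have hu' := sum_support_decompose 𝒜 u
  have hv' := sum_support_decompose 𝒜 v
  have e : u * v = ∑ i ∈ (decompose 𝒜 u).support, ∑ j ∈ (decompose 𝒜 v).support,
      (decompose 𝒜 u i : A) * (decompose 𝒜 v j : A) := by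
    conv_lhs => rw [← hu', ← hv']
    rw [Finset.sum_mul_sum]
  rw [e, decompose_sum, DFinsupp.finset_sum_apply, AddSubmonoidClass.coe_finset_sum]
  refine Q.sum_mem fun i _ => ?_
  rw [decompose_sum, DFinsupp.finset_sum_apply, AddSubmonoidClass.coe_finset_sum]
  refine Q.sum_mem fun j _ => ?_
  by_cases hi : i = 0
  · rw [mem_irr] at hu
    rw [hi, hu, zero_mul, decompose_zero]
    exact Q.zero_mem
  by_cases hj : j = 0
  · rw [mem_irr] at hv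
    rw [hj, hv, mul_zero, decompose_zero]
    exact Q.zero_mem
  have hmem : (decompose 𝒜 u i : A) * (decompose 𝒜 v j : A) ∈ 𝒜 (i + j) :=
    SetLike.GradedMul.mul_mem (SetLike.coe_mem _) (SetLike.coe_mem _)
  by_cases hij : i + j = n
  · rw [← hij, decompose_of_mem_same 𝒜 hmem]
    exact hQ i j hi hj hij _ (SetLike.coe_mem _) _ (SetLike.coe_mem _)
  · rw [decompose_of_mem_ne 𝒜 hmem hij]
    exact Q.zero_mem

theorem proj_mem_of_mem_sq (Q : AddSubgroup A) (n : N)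
    (hQ : ∀ i j : N, i ≠ 0 → j ≠ 0 → i + j = n → ∀ u ∈ 𝒜 i, ∀ v ∈ 𝒜 j, u * v ∈ Q)
    (z : A) (hz : z ∈ irr 𝒜 * irr 𝒜) : (decompose 𝒜 z n : A) ∈ Q := by
  refine Submodule.mul_induction_on hz ?_ ?_
  · intro u hu v hv
    exact proj_mul_mem 𝒜 Q n hQ u v hu hv
  · intro x y hx hy
    rw [decompose_add, DirectSum.add_apply, AddMemClass.coe_add]
    exact Q.add_mem hx hy

theorem proj_sq_mem_sq (n : N) (z : A) (hz : z ∈ irr 𝒜 * irr 𝒜) :
    (decompose 𝒜 z n : A) ∈ irr 𝒜 * irr 𝒜 := by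
  refine proj_mem_of_mem_sq 𝒜 (irr 𝒜 * irr 𝒜).toAddSubgroup n ?_ z hz
  intro i j hi hj _ u hu v hv
  exact Ideal.mul_mem_mul (mem_irr_of_mem 𝒜 hi hu) (mem_irr_of_mem 𝒜 hj hv)

end Graded

end Groth.Agent.Lib.Helper32.GrSmooth
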