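import Mathlib
import Groth.Agent.Lib.Helper32.GrSmooth.Graded

set_option autoImplicit false
universe u
open DirectSum

namespace Groth.Agent.Lib.Helper32.GrSmooth

section Cot

variable {R : Type u} [CommRing R] {A : Type u} [CommRing A] [Algebra R A]
  {N : Type} [AddCommMonoid N] [DecidableEq N] [PartialOrder N] [CanonicallyOrderedAdd N]
  [IsCancelAdd N]
  (𝒜 : N → Submodule R A) [GradedAlgebra 𝒜]

noncomputable def rhoAlg : A →ₐ[R] 𝒜 0 :=
  { GradedRing.projZeroRingHom' 𝒜 with
    commutes' := fun r => by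
      apply Subtype.ext
      show (decompose 𝒜 (algebraMap R A r) 0 : A) = algebraMap R A r
      exact decompose_of_mem_same 𝒜 (SetLike.algebraMap_mem_graded 𝒜 r) }

theorem rhoAlg_coe (x : 𝒜 0) : rhoAlg 𝒜 (x : A) = x :=
  GradedRing.projZeroRingHom'_apply_coe 𝒜 x

theorem coe_rhoAlg (x : A) : ((rhoAlg 𝒜 x : 𝒜 0) : A) = (decompose 𝒜 x 0 : A) := rfl

def inclAlg : 𝒜 0 →ₐ[R] A where
  toFun x := x
  map_one' := rfl
  map_mul' _ _ := rfl
  map_zero' := rfl
  map_add' _ _ := rfl
  commutes' _ := rfl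

theorem formallySmooth_zero [Algebra.FormallySmooth R A] : Algebra.FormallySmooth R (𝒜 0) := by
  refine Algebra.FormallySmooth.of_split (rhoAlg 𝒜)
    ((Ideal.Quotient.mkₐ R _).comp (inclAlg 𝒜)) ?_
  ext x
  simp only [AlgHom.comp_apply, Ideal.Quotient.mkₐ_eq_mk, AlgHom.id_apply]
  rw [AlgHom.kerSquareLift_mk]
  exact congrArg Subtype.val (rhoAlg_coe 𝒜 x)

noncomputable def ext : Algebra.Extension.{u} R (𝒜 0) where
  Ring := A
  algebra₂ := (rhoAlg 𝒜).toAlgebra
  isScalarTower :=
    letI := (rhoAlg 𝒜).toAlgebra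
    IsScalarTower.of_algebraMap_eq' (rhoAlg 𝒜).comp_algebraMap.symm
  σ := fun x => (x : A)
  algebraMap_σ := fun x => rhoAlg_coe 𝒜 x

theorem mem_ext_ker (x : A) : (x ∈ ((ext 𝒜).ker : Ideal A)) ↔ x ∈ irr 𝒜 := by
  show rhoAlg 𝒜 x = 0 ↔ _
  rw [mem_irr]
  constructor
  · intro h
    have := congrArg Subtype.val h
    exact this
  · intro h
    apply Subtype.ext
    exact h

theorem cotangent_projective [Algebra.FormallySmooth R A] :
    Module.Projective (𝒜 0) (ext 𝒜).Cotangent := by
  have := formallySmooth_zero 𝒜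
  haveI : Algebra.FormallySmooth R (ext 𝒜).Ring := ‹Algebra.FormallySmooth R A›
  obtain ⟨l, hl⟩ := (Algebra.Extension.formallySmooth_iff_split_injection (ext 𝒜)).mp inferInstance
  haveI : Module.Projective (ext 𝒜).Ring (Ω[(ext 𝒜).Ring⁄R]) :=
    Algebra.FormallySmooth.projective_kaehlerDifferential
  haveI : Module.Projective (𝒜 0) (ext 𝒜).CotangentSpace := by
    unfold Algebra.Extension.CotangentSpace
    infer_instance
  exact Module.Projective.of_split _ l hl

theorem cotangent_finite [Algebra.FormallySmooth R A] [Algebra.FiniteType R A] :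
    Module.Finite (𝒜 0) (ext 𝒜).Cotangent := by
  have := formallySmooth_zero 𝒜
  haveI : Algebra.FormallySmooth R (ext 𝒜).Ring := ‹Algebra.FormallySmooth R A›
  obtain ⟨l, hl⟩ := (Algebra.Extension.formallySmooth_iff_split_injection (ext 𝒜)).mp inferInstance
  haveI : Algebra.FiniteType R (ext 𝒜).Ring := ‹Algebra.FiniteType R A›
  haveI : Module.Finite (ext 𝒜).Ring (Ω[(ext 𝒜).Ring⁄R]) := inferInstance
  haveI : Module.Finite (𝒜 0) (ext 𝒜).CotangentSpace := by
    unfold Algebra.Extension.CotangentSpace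
    infer_instance
  refine Module.Finite.of_surjective l ?_
  intro x
  exact ⟨(ext 𝒜).cotangentComplex x, LinearMap.congr_fun hl x⟩

end Cot

end Groth.Agent.Lib.Helper32.GrSmooth
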