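import Mathlib
import Groth.Agent.Lib.Helper32.GrSmooth.Cot

set_option autoImplicit false
universe u
open DirectSum

namespace Groth.Agent.Lib.Helper32.GrSmooth

section Factor

variable {S : Type*} [CommRing S] {X Y M : Type*} [AddCommGroup X] [Module S X]
  [AddCommGroup Y] [Module S Y] [AddCommGroup M] [Module S M]

theorem exists_factor (q : X →ₗ[S] Y) (hq : Function.Surjective q) (f : X →ₗ[S] M)
    (h : ∀ x, q x = 0 → f x = 0) : ∃ g : Y →ₗ[S] M, ∀ x, g (q x) = f x := by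
  have hker : LinearMap.ker q ≤ LinearMap.ker f := fun x hx => h x hx
  refine ⟨((LinearMap.ker q).liftQ f hker).comp
    (q.quotKerEquivOfSurjective hq).symm.toLinearMap, fun x => ?_⟩
  have : (q.quotKerEquivOfSurjective hq).symm (q x) = Submodule.Quotient.mk x := by
    rw [LinearEquiv.symm_apply_eq]
    rfl
  simp only [LinearMap.comp_apply, LinearEquiv.coe_coe, this, Submodule.liftQ_apply]

end Factor

section Split

variable {R : Type u} [CommRing R] {A : Type u} [CommRing A] [Algebra R A]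
  {N : Type} [AddCommMonoid N] [DecidableEq N] [PartialOrder N] [CanonicallyOrderedAdd N]
  [IsCancelAdd N]
  (𝒜 : N → Submodule R A) [GradedAlgebra 𝒜]

theorem ext_ker' : ((ext 𝒜).ker : Ideal A) = irr 𝒜 := Ideal.ext (mem_ext_ker 𝒜)

theorem smul_cot (a : 𝒜 0) (y : (ext 𝒜).Cotangent) :
    a • y = (show (ext 𝒜).Ring from (a : A)) • y := by
  apply Algebra.Extension.Cotangent.ext
  rw [Algebra.Extension.Cotangent.val_smul, Algebra.Extension.Cotangent.val_smul']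
  rfl

noncomputable def q₀ : ↥(irr 𝒜) →ₗ[𝒜 0] (ext 𝒜).Cotangent where
  toFun x := Algebra.Extension.Cotangent.mk ⟨x.1, (mem_ext_ker 𝒜 x.1).mpr x.2⟩
  map_add' x y := by
    rw [← map_add]
    rfl
  map_smul' a x := by
    rw [RingHom.id_apply, smul_cot, ← map_smul]
    rfl

theorem q₀_surjective : Function.Surjective (q₀ 𝒜) := by
  intro y
  obtain ⟨x, rfl⟩ := Algebra.Extension.Cotangent.mk_surjective y
  exact ⟨⟨x.1, (mem_ext_ker 𝒜 x.1).mp x.2⟩, rfl⟩

theorem q₀_eq_zero_iff (x : ↥(irr 𝒜)) : q₀ 𝒜 x = 0 ↔ x.1 ∈ irr 𝒜 * irr 𝒜 := by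
  show Algebra.Extension.Cotangent.mk _ = 0 ↔ _
  rw [Algebra.Extension.Cotangent.mk_eq_zero_iff]
  show x.1 ∈ ((ext 𝒜).ker : Ideal A) ^ 2 ↔ _
  rw [ext_ker', pow_two]
  exact Iff.rfl

noncomputable def varpi (n : N) : ↥(irr 𝒜) →ₗ[𝒜 0] ↥(irr 𝒜) where
  toFun x := ⟨(decompose 𝒜 x.1 n : A), proj_mem_irr 𝒜 n x.2⟩
  map_add' x y := by
    apply Subtype.ext
    show (decompose 𝒜 (x.1 + y.1) n : A) = (decompose 𝒜 x.1 n : A) + (decompose 𝒜 y.1 n : A)
    rw [decompose_add, DirectSum.add_apply, AddMemClass.coe_add]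
  map_smul' a x := by
    apply Subtype.ext
    show (decompose 𝒜 ((a : A) * x.1) n : A) = (a : A) * (decompose 𝒜 x.1 n : A)
    exact coe_decompose_mul_of_left_mem_zero 𝒜 a.2

theorem varpi_val (n : N) (x : ↥(irr 𝒜)) : (varpi 𝒜 n x).1 = (decompose 𝒜 x.1 n : A) := rfl

theorem exists_pibar (n : N) : ∃ g : (ext 𝒜).Cotangent →ₗ[𝒜 0] (ext 𝒜).Cotangent,
    ∀ x, g (q₀ 𝒜 x) = q₀ 𝒜 (varpi 𝒜 n x) := by
  refine exists_factor (q₀ 𝒜) (q₀_surjective 𝒜) ((q₀ 𝒜).comp (varpi 𝒜 n)) ?_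
  intro x hx
  rw [q₀_eq_zero_iff] at hx
  rw [LinearMap.comp_apply, q₀_eq_zero_iff, varpi_val]
  exact proj_sq_mem_sq 𝒜 n x.1 hx

noncomputable def pibar (n : N) : (ext 𝒜).Cotangent →ₗ[𝒜 0] (ext 𝒜).Cotangent :=
  (exists_pibar 𝒜 n).choose

theorem pibar_q₀ (n : N) (x : ↥(irr 𝒜)) : pibar 𝒜 n (q₀ 𝒜 x) = q₀ 𝒜 (varpi 𝒜 n x) :=
  (exists_pibar 𝒜 n).choose_spec x

theorem varpi_varpi (n m : N) (x : ↥(irr 𝒜)) :
    varpi 𝒜 n (varpi 𝒜 m x) = if n = m then varpi 𝒜 m x else 0 := by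
  apply Subtype.ext
  rw [varpi_val, varpi_val]
  split_ifs with h
  · rw [h, varpi_val]
    exact decompose_of_mem_same 𝒜 (SetLike.coe_mem _)
  · exact decompose_of_mem_ne 𝒜 (SetLike.coe_mem _) (Ne.symm h)

theorem pibar_pibar (n m : N) (p : (ext 𝒜).Cotangent) :
    pibar 𝒜 n (pibar 𝒜 m p) = if n = m then pibar 𝒜 m p else 0 := by
  obtain ⟨x, rfl⟩ := q₀_surjective 𝒜 p
  rw [pibar_q₀, pibar_q₀, varpi_varpi]
  split_ifs with h
  · rfl
  · rw [map_zero]

theorem exists_finset_sum_pibar [Module.Finite (𝒜 0) (ext 𝒜).Cotangent] :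
    ∃ F : Finset N, ∀ p, ∑ n ∈ F, pibar 𝒜 n p = p := by
  classical
  obtain ⟨G, hG⟩ := (Module.finite_def.mp ‹Module.Finite (𝒜 0) (ext 𝒜).Cotangent›)
  choose y hy using fun p : (ext 𝒜).Cotangent => q₀_surjective 𝒜 p
  let F : Finset N := G.biUnion fun p => (decompose 𝒜 (y p).1).support
  refine ⟨F, fun p => ?_⟩
  have hlin : (∑ n ∈ F, pibar 𝒜 n) = LinearMap.id := by
    apply LinearMap.ext_on hG
    intro p hp
    rw [LinearMap.sum_apply, LinearMap.id_apply]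
    have hsub : (decompose 𝒜 (y p).1).support ⊆ F := by
      intro n hn
      exact Finset.mem_biUnion.mpr ⟨p, hp, hn⟩
    conv_lhs => rw [← hy p]
    simp only [pibar_q₀]
    rw [← map_sum]
    conv_rhs => rw [← hy p]
    congr 1
    apply Subtype.ext
    rw [AddSubmonoidClass.coe_finsetSum]
    simp only [varpi_val]
    rw [← Finset.sum_subset hsub]
    · exact sum_support_decompose 𝒜 (y p).1
    · intro n _ hn
      rw [DFinsupp.mem_support_toFun, not_not] at hn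
      rw [hn]
      rfl
  have := LinearMap.congr_fun hlin p
  rwa [LinearMap.sum_apply, LinearMap.id_apply] at this

end Split

end Groth.Agent.Lib.Helper32.GrSmooth
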