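import Mathlib
import Groth.Agent.Lib.Helper32.GrSmooth.Split

set_option autoImplicit false
universe u
open DirectSum

namespace Groth.Agent.Lib.Helper32.GrSmooth

section Sec

variable {R : Type u} [CommRing R] {A : Type u} [CommRing A] [Algebra R A]
  {N : Type} [AddCommMonoid N] [DecidableEq N] [PartialOrder N] [CanonicallyOrderedAdd N]
  [IsCancelAdd N]
  (𝒜 : N → Submodule R A) [GradedAlgebra 𝒜]

theorem exists_graded_section [Module.Finite (𝒜 0) (ext 𝒜).Cotangent]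
    [Module.Projective (𝒜 0) (ext 𝒜).Cotangent] :
    ∃ s : (ext 𝒜).Cotangent →ₗ[𝒜 0] ↥(irr 𝒜),
      (∀ p, q₀ 𝒜 (s p) = p) ∧ (∀ n p, pibar 𝒜 n p = p → (s p).1 ∈ 𝒜 n) := by
  classical
  obtain ⟨F, hF⟩ := exists_finset_sum_pibar 𝒜
  obtain ⟨s₀, hs₀⟩ := Module.projective_lifting_property (q₀ 𝒜) LinearMap.id (q₀_surjective 𝒜)
  have hs₀' : ∀ p, q₀ 𝒜 (s₀ p) = p := fun p => LinearMap.congr_fun hs₀ p
  refine ⟨∑ n ∈ F, ((varpi 𝒜 n).comp s₀).comp (pibar 𝒜 n), ?_, ?_⟩
  · intro p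
    rw [LinearMap.sum_apply, map_sum]
    conv_rhs => rw [← hF p]
    refine Finset.sum_congr rfl fun n _ => ?_
    rw [LinearMap.comp_apply, LinearMap.comp_apply, ← pibar_q₀, hs₀', pibar_pibar, if_pos rfl]
  · intro m p hp
    rw [LinearMap.sum_apply, AddSubmonoidClass.coe_finsetSum]
    refine Submodule.sum_mem _ fun n _ => ?_
    rw [LinearMap.comp_apply, LinearMap.comp_apply]
    by_cases hnm : n = m
    · rw [hnm, varpi_val]
      exact SetLike.coe_mem _
    · have : pibar 𝒜 n p = 0 := by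
        rw [← hp, pibar_pibar, if_neg hnm]
      rw [this, map_zero, map_zero]
      exact zero_mem _

end Sec

end Groth.Agent.Lib.Helper32.GrSmooth
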