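import Mathlib
import Groth.Agent.Lib.Helper32.GrSmooth.Section

set_option autoImplicit false
universe u
open DirectSum

namespace Groth.Agent.Lib.Helper32.GrSmooth

section Surj

variable {R : Type u} [CommRing R] {A : Type u} [CommRing A] [Algebra R A]
  {N : Type} [AddCommMonoid N] [DecidableEq N] [PartialOrder N] [CanonicallyOrderedAdd N]
  [IsCancelAdd N]
  (𝒜 : N → Submodule R A) [GradedAlgebra 𝒜]
  (s : (ext 𝒜).Cotangent →ₗ[𝒜 0] ↥(irr 𝒜))

def valLin : ↥(irr 𝒜) →ₗ[𝒜 0] A where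
  toFun x := x.1
  map_add' _ _ := rfl
  map_smul' _ _ := rfl

noncomputable def sA : (ext 𝒜).Cotangent →ₗ[𝒜 0] A := (valLin 𝒜).comp s

theorem sA_apply (p : (ext 𝒜).Cotangent) : sA 𝒜 s p = (s p).1 := rfl

noncomputable def PiHom : SymmetricAlgebra (𝒜 0) (ext 𝒜).Cotangent →ₐ[𝒜 0] A :=
  SymmetricAlgebra.lift (sA 𝒜 s)

theorem PiHom_ι (p : (ext 𝒜).Cotangent) :
    PiHom 𝒜 s (SymmetricAlgebra.ι (𝒜 0) _ p) = (s p).1 := by
  rw [PiHom, SymmetricAlgebra.lift_ι_apply, sA_apply]

omit [DecidableEq N] in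
theorem lt_add_of_ne_zero (i j : N) (hj : j ≠ 0) : i < i + j := by
  refine lt_of_le_of_ne le_self_add ?_
  intro h
  exact hj (left_eq_add.mp h)

theorem PiHom_surjective [WellFoundedLT N] (hs1 : ∀ p, q₀ 𝒜 (s p) = p)
    (hs2 : ∀ n p, pibar 𝒜 n p = p → (s p).1 ∈ 𝒜 n) : Function.Surjective (PiHom 𝒜 s) := by
  classical
  have key : ∀ n : N, ∀ x ∈ 𝒜 n, x ∈ (PiHom 𝒜 s).range := by
    intro n
    induction n using WellFoundedLT.induction with
    | ind n ih =>
      intro x hx
      by_cases hn : n = 0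
      · subst hn
        have : x = algebraMap (𝒜 0) A ⟨x, hx⟩ := rfl
        rw [this]
        exact Subalgebra.algebraMap_mem _ _
      · have hxI : x ∈ irr 𝒜 := mem_irr_of_mem 𝒜 hn hx
        set p := q₀ 𝒜 ⟨x, hxI⟩ with hp
        have hpp : pibar 𝒜 n p = p := by
          rw [hp, pibar_q₀]
          congr 1
          apply Subtype.ext
          rw [varpi_val]
          exact decompose_of_mem_same 𝒜 hx
        have hy : (s p).1 ∈ 𝒜 n := hs2 n p hpp
        have hyr : (s p).1 ∈ (PiHom 𝒜 s).range := ⟨SymmetricAlgebra.ι (𝒜 0) _ p, PiHom_ι 𝒜 s p⟩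
        have hdiff : (⟨x, hxI⟩ - s p : ↥(irr 𝒜)).1 ∈ irr 𝒜 * irr 𝒜 := by
          rw [← q₀_eq_zero_iff, map_sub, hs1, ← hp, sub_self]
        have hdiff' : x - (s p).1 ∈ irr 𝒜 * irr 𝒜 := hdiff
        have hmem : x - (s p).1 ∈ 𝒜 n := Submodule.sub_mem _ hx hy
        have h1 := proj_mem_of_mem_sq 𝒜 (PiHom 𝒜 s).range.toSubring.toAddSubgroup n ?_
          (x - (s p).1) hdiff'
        · rw [decompose_of_mem_same 𝒜 hmem] at h1
          have h2 : x - (s p).1 ∈ (PiHom 𝒜 s).range := h1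
          have : x = (x - (s p).1) + (s p).1 := by ring
          rw [this]
          exact Subalgebra.add_mem _ h2 hyr
        · intro i j hi hj hij u hu v hv
          have hi' : i < n := by
            rw [← hij]
            exact lt_add_of_ne_zero i j hj
          have hj' : j < n := by
            rw [← hij, add_comm]
            exact lt_add_of_ne_zero j i hi
          exact Subalgebra.mul_mem _ (ih i hi' u hu) (ih j hj' v hv)
  intro x
  have hx := sum_support_decompose 𝒜 x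
  have : x ∈ (PiHom 𝒜 s).range := by
    rw [← hx]
    exact Subalgebra.sum_mem _ fun n _ => key n _ (SetLike.coe_mem _)
  exact this

end Surj

end Groth.Agent.Lib.Helper32.GrSmooth
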