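import Mathlib
import Groth.Agent.Lib.Helper32.GrSmooth.Surj

set_option autoImplicit false
universe u
open DirectSum

namespace Groth.Agent.Lib.Helper32.GrSmooth

section Inj

variable {R : Type u} [CommRing R] {A : Type u} [CommRing A] [Algebra R A]
  {N : Type} [AddCommMonoid N] [DecidableEq N] [PartialOrder N] [CanonicallyOrderedAdd N]
  [IsCancelAdd N]
  (𝒜 : N → Submodule R A) [GradedAlgebra 𝒜]
  (s : (ext 𝒜).Cotangent →ₗ[𝒜 0] ↥(irr 𝒜))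

noncomputable def rho0 : A →ₐ[𝒜 0] 𝒜 0 :=
  { (rhoAlg 𝒜).toRingHom with commutes' := fun a => rhoAlg_coe 𝒜 a }

theorem rho0_eq_zero {x : A} (hx : x ∈ irr 𝒜) : rho0 𝒜 x = 0 :=
  Subtype.ext ((mem_irr 𝒜 x).mp hx)

theorem rho0_coe (a : 𝒜 0) : rho0 𝒜 (a : A) = a := rhoAlg_coe 𝒜 a

theorem rho0_comp_PiHom :
    (rho0 𝒜).comp (PiHom 𝒜 s) = SymmetricAlgebra.algebraMapInv := by
  apply SymmetricAlgebra.algHom_ext
  refine LinearMap.ext fun p => ?_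
  show rho0 𝒜 (PiHom 𝒜 s (SymmetricAlgebra.ι (𝒜 0) _ p))
    = SymmetricAlgebra.algebraMapInv (SymmetricAlgebra.ι (𝒜 0) _ p)
  rw [PiHom_ι, SymmetricAlgebra.algebraMapInv_ι, rho0_eq_zero 𝒜 (s p).2]

theorem PiHom_mem_irr {t : SymmetricAlgebra (𝒜 0) (ext 𝒜).Cotangent}
    (ht : t ∈ augIdeal (𝒜 0) (ext 𝒜).Cotangent) : PiHom 𝒜 s t ∈ irr 𝒜 := by
  rw [mem_irr]
  have h1 := AlgHom.congr_fun (rho0_comp_PiHom 𝒜 s) t
  rw [(mem_augIdeal _ _ t).mp ht, AlgHom.comp_apply] at h1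
  exact congrArg Subtype.val h1

theorem PiHom_mem_sq {t : SymmetricAlgebra (𝒜 0) (ext 𝒜).Cotangent}
    (ht : t ∈ augIdeal (𝒜 0) (ext 𝒜).Cotangent * augIdeal (𝒜 0) (ext 𝒜).Cotangent) :
    PiHom 𝒜 s t ∈ irr 𝒜 * irr 𝒜 := by
  refine Submodule.mul_induction_on ht ?_ ?_
  · intro u hu v hv
    rw [map_mul]
    exact Ideal.mul_mem_mul (PiHom_mem_irr 𝒜 s hu) (PiHom_mem_irr 𝒜 s hv)
  · intro x y hx hy
    rw [map_add]
    exact Ideal.add_mem _ hx hy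

theorem ι_mem_aug (p : (ext 𝒜).Cotangent) :
    SymmetricAlgebra.ι (𝒜 0) _ p ∈ augIdeal (𝒜 0) (ext 𝒜).Cotangent := by
  rw [mem_augIdeal, SymmetricAlgebra.algebraMapInv_ι]

theorem exists_decomp (t : SymmetricAlgebra (𝒜 0) (ext 𝒜).Cotangent) :
    ∃ (a : 𝒜 0) (p : (ext 𝒜).Cotangent) (h : SymmetricAlgebra (𝒜 0) (ext 𝒜).Cotangent),
      h ∈ augIdeal (𝒜 0) (ext 𝒜).Cotangent * augIdeal (𝒜 0) (ext 𝒜).Cotangent ∧
      t = algebraMap (𝒜 0) _ a + SymmetricAlgebra.ι (𝒜 0) _ p + h := by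
  induction t using SymmetricAlgebra.induction with
  | algebraMap r => exact ⟨r, 0, 0, zero_mem _, by simp⟩
  | ι x => exact ⟨0, x, 0, zero_mem _, by simp⟩
  | mul x y hx hy =>
    obtain ⟨a, p, h, hh, rfl⟩ := hx
    obtain ⟨a', p', h', hh', rfl⟩ := hy
    refine ⟨a * a', a • p' + a' • p,
      SymmetricAlgebra.ι (𝒜 0) _ p * SymmetricAlgebra.ι (𝒜 0) _ p'
        + (algebraMap (𝒜 0) _ a + SymmetricAlgebra.ι (𝒜 0) _ p) * h'
        + h * (algebraMap (𝒜 0) _ a' + SymmetricAlgebra.ι (𝒜 0) _ p' + h'), ?_, ?_⟩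
    · refine Ideal.add_mem _ (Ideal.add_mem _ ?_ ?_) ?_
      · exact Ideal.mul_mem_mul (ι_mem_aug 𝒜 p) (ι_mem_aug 𝒜 p')
      · exact Ideal.mul_mem_left _ _ hh'
      · exact Ideal.mul_mem_right _ _ hh
    · rw [map_mul, map_add, map_smul, map_smul, Algebra.smul_def, Algebra.smul_def]
      ring
  | add x y hx hy =>
    obtain ⟨a, p, h, hh, rfl⟩ := hx
    obtain ⟨a', p', h', hh', rfl⟩ := hy
    refine ⟨a + a', p + p', h + h', Ideal.add_mem _ hh hh', ?_⟩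
    rw [map_add, map_add]
    ring

theorem mem_sq_of_PiHom_eq_zero (hs1 : ∀ p, q₀ 𝒜 (s p) = p)
    (t : SymmetricAlgebra (𝒜 0) (ext 𝒜).Cotangent) (ht : PiHom 𝒜 s t = 0) :
    t ∈ augIdeal (𝒜 0) (ext 𝒜).Cotangent * augIdeal (𝒜 0) (ext 𝒜).Cotangent := by
  obtain ⟨a, p, h, hh, rfl⟩ := exists_decomp 𝒜 t
  have hPh := PiHom_mem_sq 𝒜 s hh
  rw [map_add, map_add, AlgHom.commutes, PiHom_ι] at ht
  have ha : a = 0 := by
    have h1 := congrArg (rho0 𝒜) ht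
    rw [map_add, map_add, map_zero, rho0_eq_zero 𝒜 (s p).2,
      rho0_eq_zero 𝒜 (Ideal.mul_le_left hPh), add_zero, add_zero] at h1
    rw [← h1]
    exact (rho0_coe 𝒜 a).symm
  have hp : p = 0 := by
    rw [ha, map_zero, zero_add] at ht
    have h2 : (s p).1 = -(PiHom 𝒜 s h) := eq_neg_of_add_eq_zero_left ht
    have h3 : (s p).1 ∈ irr 𝒜 * irr 𝒜 := by
      rw [h2]
      exact Ideal.neg_mem_iff _ |>.mpr hPh
    rw [← hs1 p, q₀_eq_zero_iff]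
    exact h3
  rw [ha, hp, map_zero, map_zero, zero_add, zero_add]
  exact hh

end Inj

end Groth.Agent.Lib.Helper32.GrSmooth
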