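import Mathlib
import Groth.Agent.Lib.Helper32.GrSmooth.Inj

set_option autoImplicit false
universe u
open DirectSum

namespace Groth.Agent.Lib.Helper32.GrSmooth

section Final

variable {R : Type u} [CommRing R] {A : Type u} [CommRing A] [Algebra R A]
  {N : Type} [AddCommMonoid N] [DecidableEq N] [PartialOrder N] [CanonicallyOrderedAdd N]
  [IsCancelAdd N]
  (𝒜 : N → Submodule R A) [GradedAlgebra 𝒜]
  (s : (ext 𝒜).Cotangent →ₗ[𝒜 0] ↥(irr 𝒜))

set_option quotPrecheck false in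
local notation "T" => SymmetricAlgebra (𝒜 0) (ext 𝒜).Cotangent
set_option quotPrecheck false in
local notation "K" => RingHom.ker (PiHom 𝒜 s).toRingHom

theorem PiHom_injective [Algebra.FormallySmooth R A]
    [Module.Finite (𝒜 0) (ext 𝒜).Cotangent] [Module.Projective (𝒜 0) (ext 𝒜).Cotangent]
    (hs1 : ∀ p, q₀ 𝒜 (s p) = p) (hsurj : Function.Surjective (PiHom 𝒜 s)) :
    Function.Injective (PiHom 𝒜 s) := by
  have hmemK : ∀ t : T, t ∈ K ↔ PiHom 𝒜 s t = 0 := fun t => by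
    rw [RingHom.mem_ker]; rfl
  haveI : IsScalarTower R (𝒜 0) A := IsScalarTower.of_algebraMap_eq (fun _ => rfl)
  let g₀ : (T ⧸ K ^ 2) →ₐ[R] A := (PiHom 𝒜 s).kerSquareLift.restrictScalars R
  have hg₀mk : ∀ t : T, g₀ (Ideal.Quotient.mk (K ^ 2) t) = PiHom 𝒜 s t := fun t =>
    (PiHom 𝒜 s).kerSquareLift_mk t
  have hg₀surj : Function.Surjective g₀ := by
    intro x
    obtain ⟨t, rfl⟩ := hsurj x
    exact ⟨Ideal.Quotient.mk (K ^ 2) t, hg₀mk t⟩
  have hnil : IsNilpotent (RingHom.ker (g₀ : (T ⧸ K ^ 2) →+* A)) := by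
    refine ⟨2, ?_⟩
    have : RingHom.ker (g₀ : (T ⧸ K ^ 2) →+* A) = (K).cotangentIdeal :=
      (PiHom 𝒜 s).ker_kerSquareLift
    rw [this, Ideal.cotangentIdeal_square]
    rfl
  let g := Algebra.FormallySmooth.liftOfSurjective (AlgHom.id R A) g₀ hg₀surj hnil
  have hg : ∀ x, g₀ (g x) = x := fun x =>
    Algebra.FormallySmooth.liftOfSurjective_apply (AlgHom.id R A) g₀ hg₀surj hnil x
  let τ : T →+* T ⧸ K ^ 2 := (g : A →+* T ⧸ K ^ 2).comp (PiHom 𝒜 s : T →+* A)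
  have hτ : ∀ t, ∃ c ∈ K, τ t = Ideal.Quotient.mk (K ^ 2) (t + c) := by
    intro t
    obtain ⟨t', ht'⟩ := Ideal.Quotient.mk_surjective (τ t)
    refine ⟨t' - t, ?_, ?_⟩
    · rw [hmemK, map_sub, sub_eq_zero, ← hg₀mk t', ht']
      exact hg (PiHom 𝒜 s t)
    · rw [← ht']
      congr 1
      ring
  have hKsq : ∀ f ∈ K, f ∈ augIdeal (𝒜 0) (ext 𝒜).Cotangent * augIdeal (𝒜 0) (ext 𝒜).Cotangent :=
    fun f hf => mem_sq_of_PiHom_eq_zero 𝒜 s hs1 f ((hmemK f).mp hf)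
  have hKM : K ≤ augIdeal (𝒜 0) (ext 𝒜).Cotangent := fun f hf => Ideal.mul_le_left (hKsq f hf)
  have hstep : K ≤ augIdeal (𝒜 0) (ext 𝒜).Cotangent * K := by
    intro f hf
    have hτf : τ f = 0 := by
      show g (PiHom 𝒜 s f) = 0
      rw [(hmemK f).mp hf, map_zero]
    have := mem_of_tau_eq_zero K (augIdeal (𝒜 0) (ext 𝒜).Cotangent) τ hτ f (hKsq f hf) hτf
    rwa [sup_eq_left.mpr hKM] at this
  have hpow := le_pow_of_le_mul K (augIdeal (𝒜 0) (ext 𝒜).Cotangent) hstep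
  have hK0 : ∀ f ∈ K, f = 0 := fun f hf =>
    eq_zero_of_forall_mem_pow (𝒜 0) (ext 𝒜).Cotangent f (fun j => hpow j hf)
  intro x y hxy
  have : x - y ∈ K := by
    rw [hmemK, map_sub, hxy, sub_self]
  exact sub_eq_zero.mp (hK0 _ this)

theorem exists_algEquiv [Algebra.FormallySmooth R A] [Algebra.FiniteType R A]
    [WellFoundedLT N] :
    ∃ (P : Type u) (_ : AddCommGroup P) (_ : Module (𝒜 0) P), Module.Finite (𝒜 0) P ∧
      Module.Projective (𝒜 0) P ∧ Nonempty (A ≃ₐ[𝒜 0] SymmetricAlgebra (𝒜 0) P) := by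
  haveI := cotangent_projective 𝒜
  haveI := cotangent_finite 𝒜
  obtain ⟨s, hs1, hs2⟩ := exists_graded_section 𝒜
  have hsurj := PiHom_surjective 𝒜 s hs1 hs2
  have hinj := PiHom_injective 𝒜 s hs1 hsurj
  exact ⟨(ext 𝒜).Cotangent, inferInstance, inferInstance, inferInstance, inferInstance,
    ⟨(AlgEquiv.ofBijective (PiHom 𝒜 s) ⟨hinj, hsurj⟩).symm⟩⟩

end Final

end Groth.Agent.Lib.Helper32.GrSmooth
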