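import Mathlib
import Groth.Agent.Lib.Helper32.SmoothMon.Monoid

set_option autoImplicit false

namespace Groth.Agent.Lib.Helper32.GrSmooth

open Groth.Agent.Lib.Helper32.SmoothMon

section Order

variable {N : Type} [AddCommMonoid N] [IsCancelAdd N]

def divLT (m n : N) : Prop := ∃ d, d ≠ 0 ∧ m + d = n

theorem wf_divLT [AddMonoid.FG N] (hsharp : ∀ n : N, IsAddUnit n → n = 0) :
    WellFounded (divLT (N := N)) := by
  classical
  rw [wellFounded_iff_isEmpty_descending_chain]
  refine ⟨fun ⟨f, hf⟩ => ?_⟩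
  obtain ⟨S, hS, hmin⟩ := exists_min_gen (N := N)
  have hsurj := phi_surjective S hS
  have hchain : ∀ i j : ℕ, i < j → ∃ D, D ≠ 0 ∧ f j + D = f i := by
    intro i j hij
    induction j, hij using Nat.le_induction with
    | base => exact hf i
    | succ j hj ih =>
      obtain ⟨D, hD0, hD⟩ := ih
      obtain ⟨d, hd0, hd⟩ := hf j
      refine ⟨d + D, ?_, ?_⟩
      · intro h
        exact hd0 (hsharp d (IsAddUnit.of_add_eq_zero _ h))
      · rw [← add_assoc, hd, hD]
  choose b hb using fun i => hsurj (f i)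
  obtain ⟨i, j, hij, hle⟩ := (wellQuasiOrdered_le (α := {x // x ∈ S} →₀ ℕ)) b
  obtain ⟨t, ht⟩ := exists_add_of_le hle
  obtain ⟨D, hD0, hD⟩ := hchain i j hij
  have h1 : f j = f i + phi S t := by
    rw [← hb j, ← hb i, ht, map_add]
  rw [← hD, add_assoc] at h1
  have h2 : D + phi S t = 0 := by
    have := h1.symm
    rwa [add_eq_left] at this
  exact hD0 (hsharp D (IsAddUnit.of_add_eq_zero _ h2))

def divOrder (hsharp : ∀ n : N, IsAddUnit n → n = 0) : PartialOrder N where
  le m n := ∃ d, m + d = n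
  le_refl m := ⟨0, add_zero m⟩
  le_trans a b c := fun ⟨d, hd⟩ ⟨e, he⟩ => ⟨d + e, by rw [← add_assoc, hd, he]⟩
  le_antisymm a b := fun ⟨d, hd⟩ ⟨e, he⟩ => by
    have h1 : a + (d + e) = a := by rw [← add_assoc, hd, he]
    have h0 : d + e = 0 := by rwa [add_eq_left] at h1
    have hd0 : d = 0 := hsharp d (IsAddUnit.of_add_eq_zero _ h0)
    rw [← hd, hd0, add_zero]

theorem divOrder_canonical (hsharp : ∀ n : N, IsAddUnit n → n = 0) :
    @CanonicallyOrderedAdd N _ (divOrder hsharp).toLE :=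
  letI := divOrder hsharp
  { exists_add_of_le := fun {a b} ⟨d, hd⟩ => ⟨d, hd.symm⟩
    le_add_self := fun a b => ⟨b, add_comm a b⟩
    le_self_add := fun a b => ⟨b, rfl⟩ }

theorem divOrder_wf [AddMonoid.FG N] (hsharp : ∀ n : N, IsAddUnit n → n = 0) :
    @WellFoundedLT N (divOrder hsharp).toLT := by
  letI := divOrder hsharp
  refine ⟨Subrelation.wf ?_ (wf_divLT hsharp)⟩
  intro m n hmn
  obtain ⟨⟨d, hd⟩, hnm⟩ := lt_iff_le_not_ge.mp hmn
  refine ⟨d, ?_, hd⟩
  rintro rfl
  apply hnm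
  rw [add_zero] at hd
  rw [hd]

end Order

end Groth.Agent.Lib.Helper32.GrSmooth
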